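import Mathlib.Algebra.DualNumber
import Mathlib.Algebra.Category.Ring.Constructions
import Mathlib.RingTheory.TensorProduct.Basic
import Mathlib.LinearAlgebra.TensorProduct.Prod

/-!
# Base change along `k → k[ε]`
-/

set_option autoImplicit false
set_option linter.style.haveILetI false
universe u

open CategoryTheory Limits
open scoped TensorProduct

namespace Groth.Agent.H25.InfAut

/-- The pushout of `k → A` along `k → k[ε]` is `A ⊕ εA`. -/
theorem bijective_split {k : Type u} [Field k] {A B : CommRingCat.{u}}
    {f : CommRingCat.of k ⟶ A} {u' : A ⟶ B} {v : CommRingCat.of (DualNumber k) ⟶ B}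
    (h : IsPushout f (CommRingCat.ofHom (algebraMap k (DualNumber k))) u' v) :
    Function.Bijective fun p : A × A => u' p.1 + v (DualNumber.eps : DualNumber k) * u' p.2 := by
  let K : Type u := k
  letI : Algebra k A := f.hom.toAlgebra
  letI : Algebra A B := u'.hom.toAlgebra
  let β : DualNumber k →ₐ[k] DualNumber A := DualNumber.lift
    ⟨((TrivSqZeroExt.inlAlgHom k (A : Type u) A).comp (Algebra.ofId k A), DualNumber.eps),
      DualNumber.eps_mul_eps, fun a => mul_comm _ _⟩
  have hw : f ≫ CommRingCat.ofHom (TrivSqZeroExt.inlHom A A) =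
      CommRingCat.ofHom (algebraMap k (DualNumber k)) ≫ CommRingCat.ofHom β.toRingHom := by
    exact CommRingCat.hom_ext (RingHom.ext fun c => (β.commutes c).symm)
  let d : B ⟶ CommRingCat.of (DualNumber A) := h.desc _ _ hw
  have hdu : ∀ a : A, d (u' a) = TrivSqZeroExt.inl a := fun a =>
    congr($(h.inl_desc _ _ hw) a)
  have hdv : d (v (DualNumber.eps : DualNumber k)) = (DualNumber.eps : DualNumber A) := by
    have := congr($(h.inr_desc _ _ hw) (DualNumber.eps : DualNumber k))
    exact this.trans (DualNumber.lift_apply_eps _)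
  have he : v (DualNumber.eps : DualNumber k) * v (DualNumber.eps : DualNumber k) = 0 := by
    rw [← map_mul, DualNumber.eps_mul_eps, map_zero]
  let γ : DualNumber A →ₐ[A] B := DualNumber.lift
    ⟨(Algebra.ofId A B, v (DualNumber.eps : DualNumber k)), he, fun a => mul_comm _ _⟩
  have hγd : d ≫ CommRingCat.ofHom γ.toRingHom = 𝟙 B := by
    refine h.hom_ext ?_ ?_
    · ext a
      show γ (d (u' a)) = u' a
      rw [hdu]
      exact γ.commutes a
    · refine CommRingCat.hom_ext (DualNumber.ringHom_ext ?_ ?_)
      · ext c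
        show γ (d (v (algebraMap k (DualNumber k) c))) = v (algebraMap k (DualNumber k) c)
        rw [show v (algebraMap k (DualNumber k) c) = u' (f c) from congr($(h.w) c).symm, hdu]
        exact γ.commutes _
      · show γ (d (v DualNumber.eps)) = v DualNumber.eps
        rw [hdv]
        exact DualNumber.lift_apply_eps _
  have hd : ∀ p : A × A, d (u' p.1 + v (DualNumber.eps : DualNumber k) * u' p.2) =
      (TrivSqZeroExt.inl p.1 + (DualNumber.eps : DualNumber A) * TrivSqZeroExt.inl p.2 : DualNumber A) := by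
    intro p
    rw [map_add, map_mul, hdu, hdu, hdv]
  constructor
  · intro p q hpq
    have h1 := congr(d $hpq)
    rw [hd, hd] at h1
    refine Prod.ext ?_ ?_
    · simpa using congrArg TrivSqZeroExt.fst h1
    · simpa using congrArg TrivSqZeroExt.snd h1
  · intro z
    let w : DualNumber A := d z
    refine ⟨(TrivSqZeroExt.fst w, TrivSqZeroExt.snd w), ?_⟩
    show u' w.fst + v (DualNumber.eps : DualNumber k) * u' w.snd = z
    refine Eq.trans ?_ (congr($hγd z))
    show _ = γ w
    rw [DualNumber.lift_apply_apply, mul_comm]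
    rfl

/-- Sections of the base change along a free extension of rank two. -/
theorem bijective_module {A B M N : Type u} [CommRing A] [CommRing B] [Algebra A B]
    [AddCommGroup M] [Module A M] [AddCommGroup N] [Module B N]
    (T : B ⊗[A] M →ₗ[B] N) (hT : Function.Bijective T) (e : B)
    (he : Function.Bijective fun p : A × A => algebraMap A B p.1 + e * algebraMap A B p.2) :
    Function.Bijective fun p : M × M => T (1 ⊗ₜ p.1) + e • T (1 ⊗ₜ p.2) := by
  let L : (A × A) →ₗ[A] B :=
    (Algebra.linearMap A B).coprod (LinearMap.toSpanSingleton A B e)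
  have hL : ∀ p : A × A, L p = algebraMap A B p.1 + e * algebraMap A B p.2 := fun p => by
    show algebraMap A B p.1 + p.2 • e = _
    rw [Algebra.smul_def, mul_comm]
  let Le : (A × A) ≃ₗ[A] B := LinearEquiv.ofBijective L (by
    convert he using 1
    exact funext hL)
  let Ψ : (M × M) ≃ₗ[A] B ⊗[A] M :=
    ((TensorProduct.lid A M).symm.prodCongr (TensorProduct.lid A M).symm).trans
      ((TensorProduct.prodLeft A A A A M).symm.trans (LinearEquiv.rTensor M Le))
  have hΨ : ∀ p : M × M, Ψ p = (1 : B) ⊗ₜ p.1 + e ⊗ₜ p.2 := by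
    intro p
    have hp : p = (p.1, 0) + (0, p.2) := by simp
    conv_lhs => rw [hp, map_add]
    have h1 : (TensorProduct.prodLeft A A A A M).symm ((1 : A) ⊗ₜ p.1, 0) =
        ((1 : A), (0 : A)) ⊗ₜ p.1 := by
      rw [LinearEquiv.symm_apply_eq]; simp
    have h2 : (TensorProduct.prodLeft A A A A M).symm (0, (1 : A) ⊗ₜ p.2) =
        ((0 : A), (1 : A)) ⊗ₜ p.2 := by
      rw [LinearEquiv.symm_apply_eq]; simp
    simp [Ψ, Le, L, h1, h2]
  convert hT.comp Ψ.bijective using 1
  funext p
  show _ = T (Ψ p)
  rw [hΨ, map_add]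
  congr 1
  rw [show e ⊗ₜ[A] p.2 = e • ((1 : B) ⊗ₜ[A] p.2) by
    rw [TensorProduct.smul_tmul', smul_eq_mul, mul_one], map_smul]

end Groth.Agent.H25.InfAut
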