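import Groth.Prelude.Def_Coh
import Groth.Agent.H25.InfAut.Algebra
import Groth.Agent.Lib.ClSub.Basis
import Groth.Agent.Lib.CurveBundle.EndAlg
import Groth.Agent.Lib.ZarCoh.FlatBC.PullbackSections

/-!
# Endomorphisms of the trivial deformation of a quasi-coherent module
-/

set_option autoImplicit false
set_option linter.style.haveILetI false
universe u

open CategoryTheory Limits AlgebraicGeometry Opposite
open scoped TensorProduct

namespace Groth.Agent.H25.InfAut

open Groth.Agent.Lib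
open Groth.Agent.Lib.CurveBundle.EndAlg (scal scal_app scalHom)

variable {k : Type u} [Field k] {X₀ Xε : Scheme.{u}}
  (q : Xε ⟶ X₀) (p : Xε ⟶ Spec (CommRingCat.of (DualNumber k)))

/-- The global function `ε`. -/
noncomputable def eps : Γ(Xε, ⊤) :=
  p.appTop ((Scheme.ΓSpecIso (CommRingCat.of (DualNumber k))).inv (DualNumber.eps : DualNumber k))

lemma eps_mul_eps : eps p * eps p = 0 := by
  rw [eps, ← map_mul, ← map_mul, DualNumber.eps_mul_eps, map_zero, map_zero]

variable {q p} {x : X₀ ⟶ Spec (CommRingCat.of k)}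
  (hsq : IsPullback q p x (Spec.map (CommRingCat.ofHom (algebraMap k (DualNumber k)))))

include hsq in
lemma isAffineHom_fst : IsAffineHom q :=
  MorphismProperty.of_isPullback hsq.flip (inferInstance : IsAffineHom
    (Spec.map (CommRingCat.ofHom (algebraMap k (DualNumber k)))))

include hsq in
/-- On an affine open the functions are `A ⊕ εA`. -/
lemma bijective_functions {V : X₀.Opens} (hV : IsAffineOpen V) :
    Function.Bijective fun a : Γ(X₀, V) × Γ(X₀, V) =>
      q.app V a.1 + Xε.presheaf.map (homOfLE le_top).op (eps p) * q.app V a.2 := by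
  haveI : IsAffine V.toScheme := hV
  let g := Spec.map (CommRingCat.ofHom (algebraMap k (DualNumber k)))
  have hP : IsPullback (q ∣_ V) ((q ⁻¹ᵁ V).ι ≫ p) (V.ι ≫ x) g :=
    (isPullback_morphismRestrict q V).paste_vert hsq
  have h1 := isPushout_appTop_of_isPullback hP
  have e1 : g.appTop = (Scheme.ΓSpecIso _).hom ≫ CommRingCat.ofHom (algebraMap k (DualNumber k)) ≫
      (Scheme.ΓSpecIso _).inv := by
    rw [← Category.assoc, ← Scheme.ΓSpecIso_naturality, Category.assoc, Iso.hom_inv_id,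
      Category.comp_id]
  have e2 : (q ∣_ V).appTop = V.topIso.hom ≫ q.app V ≫ (q ⁻¹ᵁ V).topIso.inv := by
    rw [← Scheme.Hom.resLE_eq_morphismRestrict, Scheme.Hom.appTop, Scheme.Hom.resLE_app_top,
      Scheme.Hom.app_eq_appLE]
  have h2 : IsPushout ((Scheme.ΓSpecIso (CommRingCat.of k)).inv ≫ (V.ι ≫ x).appTop ≫ V.topIso.hom)
      (CommRingCat.ofHom (algebraMap k (DualNumber k))) (q.app V)
      ((Scheme.ΓSpecIso (CommRingCat.of (DualNumber k))).inv ≫ ((q ⁻¹ᵁ V).ι ≫ p).appTop ≫
        (q ⁻¹ᵁ V).topIso.hom) := by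
    refine h1.of_iso (Scheme.ΓSpecIso _) V.topIso (Scheme.ΓSpecIso _) (q ⁻¹ᵁ V).topIso
      ?_ ?_ ?_ ?_
    · rw [Iso.hom_inv_id_assoc]
    · simp [e1]
    · rw [e2, Category.assoc, Category.assoc, Iso.inv_hom_id, Category.comp_id]
    · rw [Iso.hom_inv_id_assoc]
  have h3 := bijective_split h2
  convert h3 using 4 with a
  rw [Scheme.Hom.comp_appTop]
  show _ = (q ⁻¹ᵁ V).topIso.hom ((q ⁻¹ᵁ V).ι.appTop (eps p))
  rw [Scheme.Opens.ι_appTop, Scheme.Opens.topIso_hom, ← ConcreteCategory.comp_apply]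
  exact congr($(Xε.presheaf.map_comp _ _) (eps p))

variable (q p)

/-- Multiplication by `ε` on the trivial deformation. -/
noncomputable def mulEps (E : X₀.Modules) :
    (Scheme.Modules.pullback q).obj E ⟶ (Scheme.Modules.pullback q).obj E :=
  scal _ (eps p)

/-- The unit. -/
noncomputable abbrev η (E : X₀.Modules) :
    E ⟶ (Scheme.Modules.pushforward q).obj ((Scheme.Modules.pullback q).obj E) :=
  (Scheme.Modules.pullbackPushforwardAdjunction q).unit.app E

/-- The unit multiplied by `ε`. -/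
noncomputable abbrev ηeps (E : X₀.Modules) :
    E ⟶ (Scheme.Modules.pushforward q).obj ((Scheme.Modules.pullback q).obj E) :=
  η q E ≫ (Scheme.Modules.pushforward q).map (mulEps q p E)

variable {q p}

include hsq in
theorem isIso_desc (E : X₀.Modules) [E.IsQuasicoherent] :
    IsIso (biprod.desc (η q E) (ηeps q p E)) := by
  haveI := isAffineHom_fst hsq
  refine ClSub.Basis.isIso_of_bijective_affine _ fun V => ?_
  have hW : IsAffineOpen (q ⁻¹ᵁ V.1) := V.2.preimage q
  letI : Algebra Γ(X₀, V.1) Γ(Xε, q ⁻¹ᵁ V.1) := (q.appLE V.1 (q ⁻¹ᵁ V.1) le_rfl).hom.toAlgebra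
  have hT := ZarCoh.FlatBC.PullbackSections.bijective_pbTensor q E V.2 hW le_rfl
  have hb := bijective_module _ hT (Xε.presheaf.map (homOfLE le_top).op (eps p) : Γ(Xε, q ⁻¹ᵁ V.1))
    (by
      convert bijective_functions hsq V.2 using 4 <;>
        simp [RingHom.algebraMap_toAlgebra, Scheme.Hom.app_eq_appLE])
  have hu : ∀ m : Γ(E, V.1), ZarCoh.FlatBC.PullbackSections.pbRes q E le_rfl m = (η q E).app V.1 m := by
    intro m
    show ((Scheme.Modules.pullback q).obj E).presheaf.map (homOfLE le_rfl).op _ = _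
    rw [Subsingleton.elim (homOfLE (le_refl (q ⁻¹ᵁ V.1))) (𝟙 _), op_id, CategoryTheory.Functor.map_id]
    rfl
  let J : Γ(E, V.1) × Γ(E, V.1) → Γ(E ⊞ E, V.1) := fun a =>
    (biprod.inl : E ⟶ E ⊞ E).app V.1 a.1 + (biprod.inr : E ⟶ E ⊞ E).app V.1 a.2
  have hJ : Function.Surjective J := fun z => by
    refine ⟨((biprod.fst : E ⊞ E ⟶ E).app V.1 z, (biprod.snd : E ⊞ E ⟶ E).app V.1 z), ?_⟩
    exact congr(Scheme.Modules.Hom.app $(biprod.total (X := E) (Y := E)) V.1 z)
  have hcomp : (fun a => (biprod.desc (η q E) (ηeps q p E)).app V.1 (J a)) = fun a : Γ(E, V.1) × Γ(E, V.1) =>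
      ZarCoh.FlatBC.PullbackSections.pbTensor q E (le_refl (q ⁻¹ᵁ V.1)) (1 ⊗ₜ a.1) +
        (Xε.presheaf.map (homOfLE le_top).op (eps p) : Γ(Xε, q ⁻¹ᵁ V.1)) •
          ZarCoh.FlatBC.PullbackSections.pbTensor q E (le_refl (q ⁻¹ᵁ V.1)) (1 ⊗ₜ a.2) := by
    funext a
    simp only [J, map_add, ZarCoh.FlatBC.PullbackSections.pbTensor_tmul, one_smul, hu]
    congr 1
    · exact congr(Scheme.Modules.Hom.app $(biprod.inl_desc (η q E) (ηeps q p E)) V.1 a.1)
    · refine (congr(Scheme.Modules.Hom.app $(biprod.inr_desc (η q E) (ηeps q p E)) V.1 a.2)).trans ?_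
      rfl
  rw [← hcomp] at hb
  have hJb : Function.Bijective J :=
    ⟨fun a b hab => hb.1 (congrArg ((biprod.desc (η q E) (ηeps q p E)).app V.1) hab), hJ⟩
  exact (Function.Bijective.of_comp_iff _ hJb).1 hb

lemma scal_naturality {X : Scheme.{u}} {M N : X.Modules} (φ : M ⟶ N) (r : Γ(X, ⊤)) :
    scal M r ≫ φ = φ ≫ scal N r := by
  refine Scheme.Modules.hom_ext _ _ fun U => ConcreteCategory.ext_apply fun m => ?_
  show φ.app U ((scal M r).app U m) = (scal N r).app U (φ.app U m)
  rw [scal_app, scal_app, Scheme.Modules.Hom.app_smul]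

lemma pullback_map_scal_eq_zero {X Y : Scheme.{u}} (f : Y ⟶ X) (M : X.Modules) (r : Γ(X, ⊤))
    (hr : f.appTop r = 0) : (Scheme.Modules.pullback f).map (scal M r) = 0 := by
  let adj := Scheme.Modules.pullbackPushforwardAdjunction f
  apply (adj.homEquiv _ _).injective
  have h0 : adj.homEquiv _ _ (0 : (Scheme.Modules.pullback f).obj M ⟶
      (Scheme.Modules.pullback f).obj M) = 0 := by
    rw [Adjunction.homEquiv_unit]
    refine Scheme.Modules.hom_ext _ _ fun U => ConcreteCategory.ext_apply fun m => ?_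
    rfl
  rw [h0, Adjunction.homEquiv_unit]
  refine (adj.unit.naturality (scal M r)).symm.trans ?_
  refine Scheme.Modules.hom_ext _ _ fun U => ConcreteCategory.ext_apply fun m => ?_
  show (adj.unit.app M).app U ((scal M r).app U m) = 0
  rw [scal_app, Scheme.Modules.Hom.app_smul]
  show (f.app U (X.presheaf.map (homOfLE le_top).op r) : Γ(Y, f ⁻¹ᵁ U)) •
    (show Γ((Scheme.Modules.pullback f).obj M, f ⁻¹ᵁ U) from (adj.unit.app M).app U m) = 0
  have : f.app U (X.presheaf.map (homOfLE le_top).op r) = 0 := by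
    refine (congr($(f.naturality (homOfLE (le_top (a := U))).op) r)).trans ?_
    show Y.presheaf.map _ (f.appTop r) = 0
    rw [hr, map_zero]
  rw [this, zero_smul]

lemma appTop_eps {i : X₀ ⟶ Xε}
    (hip : i ≫ p = x ≫ Spec.map (CommRingCat.ofHom (TrivSqZeroExt.fstHom k k k).toRingHom)) :
    i.appTop (eps p) = 0 := by
  show (p.appTop ≫ i.appTop) _ = 0
  rw [← Scheme.Hom.comp_appTop, hip, Scheme.Hom.comp_appTop]
  show x.appTop (((Scheme.ΓSpecIso (CommRingCat.of (DualNumber k))).inv ≫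
    (Spec.map (CommRingCat.ofHom (TrivSqZeroExt.fstHom k k k).toRingHom)).appTop)
      (DualNumber.eps : DualNumber k)) = 0
  rw [← Scheme.ΓSpecIso_inv_naturality]
  show x.appTop ((Scheme.ΓSpecIso (CommRingCat.of k)).inv
    (TrivSqZeroExt.fst (DualNumber.eps : DualNumber k))) = 0
  rw [DualNumber.fst_eps, map_zero, map_zero]

end Groth.Agent.H25.InfAut
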